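import Groth.Agent.Lib.MultLocal.TorsionDense
import Groth.Agent.Lib.MultLift.TorsionOpen
import Groth.Agent.Lib.MultLift.TorsionIdeal
import Groth.Agent.Lib.QFKill14.Basic
import Mathlib

/-!
# Torsion translates of an open subgroup of multiplicative type
-/

universe u

set_option linter.style.haveILetI false
set_option maxSynthPendingDepth 3

open TensorProduct WithConv MonoidAlgebra

namespace GrothLib.TorsTrans14

open GrothLib.MultLocal

variable {K : Type u} [Field K] {M : Type u} [CommGroup M]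
variable {C : Type u} [CommRing C] [HopfAlgebra K C] [Coalgebra.IsCocomm K C]

/-- Every point of a group with an open subgroup of multiplicative type differs from a torsion point by a point
of the subgroup. -/
theorem exists_torsion_mul [IsAlgClosed K] [Algebra.FiniteType K C] [Group.FG M] {e : C} (he : IsIdempotentElem e)
    (p : C →ₐc[K] MonoidAlgebra K M) (hp : Function.Surjective p) (hker : ∀ c, p c = 0 ↔ c ∈ Ideal.span {e})
    (h : WithConv (C →ₐ[K] K)) :
    ∃ g : WithConv (C →ₐ[K] K), g.ofConv e = 0 ∧ ∃ n : ℕ, 0 < n ∧ (h * g) ^ n = 1 := by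
  classical
  have hzo : ∀ (y : C →ₐ[K] K), y e = 0 ∨ y e = 1 := fun y => IsIdempotentElem.iff_eq_zero_or_one.mp (he.map y)
  let G : WithConv (C →ₐ[K] K) → Prop := fun y => ∃ ψ : M →* Kˣ, charPt p ((Units.coeHom K).comp ψ) = y
  have hG : ∀ y : WithConv (C →ₐ[K] K), y.ofConv e = 0 ↔ G y := by
    intro y
    constructor
    · intro hy
      have hle : RingHom.ker (p : C →ₐ[K] MonoidAlgebra K M) ≤ RingHom.ker y.ofConv := fun c hc => by
        obtain ⟨d, rfl⟩ := Ideal.mem_span_singleton'.mp ((hker c).mp hc)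
        rw [RingHom.mem_ker, map_mul, hy, mul_zero]
      let u : MonoidAlgebra K M →ₐ[K] K := (Ideal.Quotient.liftₐ _ y.ofConv fun a ha => hle ha).comp
        (Ideal.quotientKerAlgEquivOfSurjective (f := (p : C →ₐ[K] MonoidAlgebra K M)) hp).symm.toAlgHom
      have hu : u.comp (p : C →ₐ[K] MonoidAlgebra K M) = y.ofConv := AlgHom.ext fun c => by
        have : (Ideal.quotientKerAlgEquivOfSurjective (f := (p : C →ₐ[K] MonoidAlgebra K M)) hp).symm (p c) =
            Ideal.Quotient.mk _ c := by
          apply (Ideal.quotientKerAlgEquivOfSurjective (f := (p : C →ₐ[K] MonoidAlgebra K M)) hp).injective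
          rw [AlgEquiv.apply_symm_apply]
          rfl
        change Ideal.Quotient.liftₐ _ y.ofConv (fun a ha => hle ha) ((Ideal.quotientKerAlgEquivOfSurjective
          (f := (p : C →ₐ[K] MonoidAlgebra K M)) hp).symm (p c)) = y.ofConv c
        rw [this]
        rfl
      refine ⟨(((MonoidAlgebra.lift K K M).symm u)).toHomUnits, ?_⟩
      have hc : (Units.coeHom K).comp ((MonoidAlgebra.lift K K M).symm u).toHomUnits =
          (MonoidAlgebra.lift K K M).symm u := MonoidHom.ext fun m => rfl
      rw [hc]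
      change toConv ((MonoidAlgebra.lift K K M ((MonoidAlgebra.lift K K M).symm u)).comp _) = y
      rw [Equiv.apply_symm_apply, hu, toConv_ofConv]
    · rintro ⟨ψ, rfl⟩
      change MonoidAlgebra.lift K K M _ (p e) = 0
      rw [(hker e).mpr (Ideal.subset_span rfl), map_zero]
  have hGmul : ∀ y z, G y → G z → G (y * z) := by
    rintro _ _ ⟨ψ, rfl⟩ ⟨ψ', rfl⟩
    exact ⟨ψ * ψ', by rw [← map_mul (charPt p), MonoidHom.comp_mul]⟩
  have hGcancel : ∀ y z, G z → G (y * z) → G y := by
    rintro y _ ⟨ψ, rfl⟩ h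
    have h2 := hGmul _ _ h ⟨ψ⁻¹, rfl⟩
    rwa [mul_assoc, ← map_mul (charPt p), ← MonoidHom.comp_mul, mul_inv_cancel, MonoidHom.comp_one, map_one,
      _root_.mul_one] at h2
  let hi := GrothLib.Hopf.pinv h
  -- a power of the point lies in the subgroup
  obtain ⟨N, hN, hNG⟩ : ∃ N, 0 < N ∧ G (h ^ N) := by
    by_contra! hcon
    let f : ℕ → C := fun i => GrothLib.Hopf.shift (hi ^ i) (1 - e)
    have hval : ∀ (y : C →ₐ[K] K) i, y (f i) = 1 - (hi ^ i * toConv y).ofConv e := fun y i => by
      have := DFunLike.congr_fun (congrArg WithConv.ofConv (GrothLib.Hopf.point_comp_shift (hi ^ i) (toConv y))) (1 - e)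
      simp only [map_sub, map_one] at this
      simp only [f, map_sub, map_one]
      exact this
    have horth : ∀ i j, i < j → f i * f j = 0 := by
      intro i j hij
      refine IsIdempotentElem.eq_zero_of_isNilpotent (((he.one_sub.map _).mul (he.one_sub.map _)))
        (GrothLib.Hopf.isNilpotent_of_forall_point (K := K) fun y => ?_)
      by_contra hne
      rw [map_mul] at hne
      obtain ⟨h1, h2⟩ := mul_ne_zero_iff.mp hne
      rw [hval] at h1 h2
      have g1 : G (hi ^ i * toConv y) := (hG _).mp ((hzo _).resolve_right fun hh => h1 (by rw [hh, sub_self]))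
      have g2 : G (hi ^ j * toConv y) := (hG _).mp ((hzo _).resolve_right fun hh => h2 (by rw [hh, sub_self]))
      refine hcon (j - i) (Nat.sub_pos_of_lt hij) (hGcancel _ _ g2 ?_)
      have hp1 : h ^ (j - i) * hi ^ (j - i) = 1 := by rw [← mul_pow, GrothLib.Hopf.mul_pinv, one_pow]
      have he2 : h ^ (j - i) * (hi ^ j * toConv y) = hi ^ i * toConv y := by
        rw [show hi ^ j = hi ^ (j - i) * hi ^ i by rw [← pow_add, Nat.sub_add_cancel hij.le],
          mul_assoc (hi ^ (j - i)), ← mul_assoc, hp1, _root_.one_mul]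
      rw [he2]
      exact g1
    haveI : IsNoetherianRing C := Algebra.FiniteType.isNoetherianRing K C
    let chain : ℕ →o Ideal C :=
      ⟨fun n => Ideal.span (f '' Set.Iio n), fun a b hab => Ideal.span_mono (Set.image_mono (Set.Iio_subset_Iio hab))⟩
    obtain ⟨n, hn⟩ := (monotone_stabilizes_iff_noetherian (R := C) (M := C)).mpr inferInstance chain
    have hmem : f n ∈ Ideal.span (f '' Set.Iio n) := by
      have := hn (n + 1) n.le_succ
      change f n ∈ chain n
      rw [this]
      exact Ideal.subset_span ⟨n, Nat.lt_succ_self n, rfl⟩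
    have hzero : ∀ z ∈ Ideal.span (f '' Set.Iio n), z * f n = 0 := by
      intro z hz
      induction hz using Submodule.span_induction with
      | mem z hz => obtain ⟨i, hi', rfl⟩ := hz; exact horth i n hi'
      | zero => exact zero_mul _
      | add a b _ _ ha hb => rw [add_mul, ha, hb, add_zero]
      | smul r a _ ha => rw [smul_eq_mul, mul_assoc, ha, mul_zero]
    have hfn : f n = 0 := by
      have hid : IsIdempotentElem (f n) := he.one_sub.map _
      rw [← hid.eq]
      exact hzero _ hmem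
    have h1 := hval ((h ^ n).ofConv) n
    rw [hfn, map_zero, toConv_ofConv, ← mul_pow, GrothLib.Hopf.pinv_mul, one_pow] at h1
    change (0 : K) = 1 - algebraMap K K (Coalgebra.counit e) at h1
    have h0 : Coalgebra.counit (R := K) e = 0 := by
      rw [← CoalgHomClass.counit_comp_apply p, (hker e).mpr (Ideal.subset_span rfl), map_zero]
    rw [h0, map_zero, sub_zero] at h1
    exact zero_ne_one h1
  obtain ⟨χ, hχ⟩ := hNG
  -- correct the torsion
  haveI : Finite (CommGroup.torsion M) := by
    haveI : Group.FG (CommGroup.torsion M) := by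
      haveI : AddGroup.FG (Additive M) := GroupFG.iff_add_fg.mp inferInstance
      haveI : Module.Finite ℤ (Additive M) := Module.Finite.iff_addGroup_fg.mpr inferInstance
      refine (Subgroup.fg_iff_add_fg _).mpr ?_ |> (Group.fg_iff_subgroup_fg _).mpr
      have h' := (Submodule.fg_iff_addSubgroup_fg (AddSubgroup.toIntSubmodule (CommGroup.torsion M).toAddSubgroup)).mp
        (IsNoetherian.noetherian _)
      exact h'
    refine CommGroup.finite_of_fg_isMulTorsion _ fun g => ?_
    obtain ⟨n, hn, h'⟩ := isOfFinOrder_iff_pow_eq_one.mp g.2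
    exact isOfFinOrder_iff_pow_eq_one.mpr ⟨n, hn, Subtype.ext h'⟩
  let d := Monoid.exponent (CommGroup.torsion M)
  have hd : 0 < d := Nat.pos_of_ne_zero Monoid.exponent_ne_zero_of_finite
  let P : Subgroup M := powSub M (N * d)
  have hND : 0 < N * d := Nat.mul_pos hN hd
  have hwd : ∀ a b : M, a ^ (N * d) = b ^ (N * d) → χ a ^ d = χ b ^ d := by
    intro a b hab
    have ht : a / b ∈ CommGroup.torsion M := by
      refine isOfFinOrder_iff_pow_eq_one.mpr ⟨N * d, hND, ?_⟩
      rw [div_pow, hab, div_self']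
    have h1 : (a / b) ^ d = 1 := congrArg Subtype.val (Monoid.pow_exponent_eq_one (⟨a / b, ht⟩ : CommGroup.torsion M))
    have h2 : (χ (a / b)) ^ d = 1 := by rw [← map_pow, h1, map_one]
    rwa [map_div, div_pow, div_eq_one] at h2
  choose r hr using fun y : P => mem_powSub.mp y.2
  let χP : P →* Kˣ :=
    { toFun := fun y => χ (r y) ^ d
      map_one' := by
        rw [hwd (r 1) 1 (by rw [hr, one_pow]; rfl), map_one, one_pow]
      map_mul' := fun y z => by
        rw [hwd (r (y * z)) (r y * r z) (by rw [hr, mul_pow, hr, hr]; rfl), map_mul, mul_pow] }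
  obtain ⟨ψ, hψ⟩ := exists_extend_character P χP
  have hψpow : ψ ^ (N * d) = χ ^ d := MonoidHom.ext fun m => by
    have := hψ ⟨m ^ (N * d), mem_powSub.mpr ⟨m, rfl⟩⟩
    change (ψ m) ^ (N * d) = χ m ^ d
    rw [← map_pow, this]
    exact hwd _ _ (hr ⟨m ^ (N * d), mem_powSub.mpr ⟨m, rfl⟩⟩)
  let g₁ := charPt p ((Units.coeHom K).comp ψ)
  let g₂ := charPt p ((Units.coeHom K).comp ψ⁻¹)
  have hg : g₁ * g₂ = 1 := by
    rw [← map_mul (charPt p), ← MonoidHom.comp_mul, mul_inv_cancel, MonoidHom.comp_one, map_one]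
  have hg₁ : g₁ ^ (N * d) = h ^ (N * d) := by
    rw [pow_mul h, ← hχ, ← map_pow (charPt p), ← map_pow (charPt p)]
    refine congrArg (charPt p) (MonoidHom.ext fun m => ?_)
    have := congrArg Units.val (DFunLike.congr_fun hψpow m)
    simpa using this
  have hpow : (h * g₂) ^ (N * d) = 1 := by
    rw [mul_pow, ← hg₁, ← mul_pow, hg, one_pow]
  exact ⟨g₂, (hG _).2 ⟨ψ⁻¹, rfl⟩, N * d, hND, hpow⟩

/-- Translation by a torsion point fixes the power maps killing it. -/
theorem shift_comp_powConv {R : Type u} [CommRing R] {C : Type u} [CommRing C] [HopfAlgebra R C] [Coalgebra.IsCocomm R C]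
    (t : WithConv (C →ₐ[R] R)) (n : ℕ) (ht : t ^ n = 1) :
    (GrothLib.Hopf.shift t).comp (SGA3b.powConv R C n) = SGA3b.powConv R C n := by
  let ρ : WithConv (C →ₐ[R] R) →* WithConv (C →ₐ[R] C) :=
    { toFun := fun g => toConv ((Algebra.ofId R C).comp g.ofConv)
      map_one' := by rw [GrothLib.Hopf.comp_convOne, toConv_ofConv]
      map_mul' := fun f g => GrothLib.Hopf.comp_convMul _ f g }
  apply toConv_injective
  rw [GrothLib.MultLocal.comp_powConv, GrothLib.Hopf.shift, toConv_ofConv, mul_pow]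
  show ρ t ^ n * _ = _
  rw [← map_pow, ht, map_one, _root_.one_mul]
  rfl

/-- Naturality of the power maps. -/
theorem bialgHom_powConv {R : Type u} [CommRing R] {A B : Type u} [CommRing A] [HopfAlgebra R A] [CommRing B]
    [HopfAlgebra R B] (π : A →ₐc[R] B) (n : ℕ) (a : A) : π (SGA3b.powConv R A n a) = SGA3b.powConv R B n (π a) := by
  have h1 := GrothLib.MultLocal.comp_powConv (π : A →ₐ[R] B) n
  have h2 : ∀ m : ℕ, toConv ((SGA3b.powConv R B m).comp (π : A →ₐ[R] B)) = toConv (π : A →ₐ[R] B) ^ m := by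
    intro m
    induction m with
    | zero =>
      rw [pow_zero, SGA3b.powConv, pow_zero]
      apply ofConv_injective
      ext c
      simp
    | succ m ih =>
      rw [pow_succ, ← ih, SGA3b.powConv, pow_succ]
      apply ofConv_injective
      show _ = _
      rw [AlgHom.convMul_comp_bialgHom_distrib]
      rfl
  exact DFunLike.congr_fun (toConv_injective (h1.trans (h2 n).symm)) a

theorem torsionIdeal_mul_le {R : Type u} [CommRing R] {A : Type u} [CommRing A] [HopfAlgebra R A] (n r : ℕ) :
    SGA3b.torsionIdeal R A (n * r) ≤ SGA3b.torsionIdeal R A n := by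
  rw [SGA3b.torsionIdeal, Ideal.map_le_iff_le_comap]
  intro a ha
  rw [Ideal.mem_comap, GrothLib.QFKill14.powConv_mul]
  exact Ideal.mem_map_of_mem _ ((DFunLike.congr_fun (GrothLib.QFKill14.powConv_counit r) a).trans ha)

/-- Torsion is schematically dense. -/
theorem exists_pow_mul_eq_zero [IsAlgClosed K] [Algebra.FiniteType K C] [Group.FG M] {e : C} (he : IsIdempotentElem e)
    {B : Type u} [CommRing B] [HopfAlgebra K B] [Algebra.FiniteType K B] (hB : SGA3b.IsMultType K B)
    (q : C →ₐc[K] B) (f : B ≃ₐc[K] MonoidAlgebra K M) (hq : Function.Surjective q)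
    (hker : ∀ c, q c = 0 ↔ c ∈ Ideal.span {e}) (a c : C)
    (hyp : ∀ n, 0 < n → ∃ k, a ^ k * c ∈ SGA3b.torsionIdeal K C n) : ∃ k, a ^ k * c = 0 := by
  classical
  let p : C →ₐc[K] MonoidAlgebra K M := (f : B →ₐc[K] MonoidAlgebra K M).comp q
  have hpker : ∀ z, p z = 0 ↔ z ∈ Ideal.span {e} := fun z => by
    rw [← hker]
    exact map_eq_zero_iff _ (EquivLike.injective f)
  let 𝔄 : Ideal C :=
    { carrier := {z | ∃ k, a ^ k * c * z = 0}
      zero_mem' := ⟨0, mul_zero _⟩
      add_mem' := by
        rintro x y ⟨k, hk⟩ ⟨l, hl⟩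
        refine ⟨k + l, ?_⟩
        calc a ^ (k + l) * c * (x + y) = a ^ l * (a ^ k * c * x) + a ^ k * (a ^ l * c * y) := by ring
          _ = 0 := by rw [hk, hl, mul_zero, mul_zero, add_zero]
      smul_mem' := by
        rintro r x ⟨k, hk⟩
        refine ⟨k, ?_⟩
        calc a ^ k * c * (r * x) = r * (a ^ k * c * x) := by ring
          _ = 0 := by rw [hk, mul_zero] }
  suffices h1 : (1 : C) ∈ 𝔄 by
    obtain ⟨k, hk⟩ := h1
    exact ⟨k, by rwa [_root_.mul_one] at hk⟩
  rw [← Ideal.eq_top_iff_one]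
  by_contra hne
  obtain ⟨P, hP, hle⟩ := 𝔄.exists_le_maximal hne
  letI := Ideal.Quotient.field P
  haveI : Module.Finite K (C ⧸ P) := finite_of_finite_type_of_isJacobsonRing _ _
  let y₀ : C →ₐ[K] K := (AlgEquiv.ofBijective (Algebra.ofId K (C ⧸ P))
    (IsAlgClosed.algebraMap_bijective_of_isIntegral (k := K))).symm.toAlgHom.comp (Ideal.Quotient.mkₐ K P)
  have hy₀ : ∀ z ∈ P, y₀ z = 0 := fun z hz => by
    simp only [y₀, AlgHom.comp_apply, Ideal.Quotient.mkₐ_eq_mk, Ideal.Quotient.eq_zero_iff_mem.2 hz, map_zero]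
  let y : WithConv (C →ₐ[K] K) := toConv y₀
  obtain ⟨g, hge, r, hr, hgr⟩ := exists_torsion_mul he p ((EquivLike.surjective f).comp hq) hpker y
  let t := y * g
  have htn : ∀ n, (t : WithConv (C →ₐ[K] K)) ^ (n * r) = 1 := fun n => by rw [mul_comm, pow_mul, hgr, one_pow]
  -- the translate of the element dies on the subgroup
  obtain ⟨k, hk⟩ := GrothLib.MultLift.exists_pow_mul_eq_zero_of_isMultType hB
    (q (GrothLib.Hopf.shift t a)) (q (GrothLib.Hopf.shift t c)) (fun n hn => by
      obtain ⟨k, hk⟩ := hyp (n * r) (Nat.mul_pos hn hr)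
      refine ⟨k, torsionIdeal_mul_le n r ?_⟩
      rw [← map_pow, ← map_mul, ← map_pow, ← map_mul]
      have hle : SGA3b.torsionIdeal K C (n * r) ≤ (SGA3b.torsionIdeal K B (n * r)).comap
          ((q : C →ₐ[K] B).comp (GrothLib.Hopf.shift t)) := by
        rw [SGA3b.torsionIdeal, Ideal.map_le_iff_le_comap]
        intro z hz
        simp only [Ideal.mem_comap, AlgHom.comp_apply, AlgHom.coe_coe]
        rw [show GrothLib.Hopf.shift t (SGA3b.powConv K C (n * r) z) = SGA3b.powConv K C (n * r) z from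
          DFunLike.congr_fun (shift_comp_powConv t _ (htn n)) z]
        show q (SGA3b.powConv K C (n * r) z) ∈ _
        rw [bialgHom_powConv]
        refine Ideal.mem_map_of_mem _ ?_
        exact (CoalgHomClass.counit_comp_apply q z).trans hz
      exact hle hk)
  rw [← map_pow, ← map_mul, ← map_pow, ← map_mul, hker] at hk
  let fy := GrothLib.Hopf.shift (GrothLib.Hopf.pinv t) e
  have hmem : 1 - fy ∈ 𝔄 := by
    refine ⟨k, ?_⟩
    apply (GrothLib.Hopf.shiftEquiv t).injective
    rw [map_zero, map_mul, GrothLib.Hopf.shiftEquiv_apply, map_sub, map_one, GrothLib.Hopf.shiftEquiv_apply]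
    have h2 : GrothLib.Hopf.shift t fy = e := by
      show ((GrothLib.Hopf.shift t).comp (GrothLib.Hopf.shift (GrothLib.Hopf.pinv t))) e = e
      rw [GrothLib.Hopf.shift_comp_shift, GrothLib.Hopf.pinv_mul, GrothLib.Hopf.shift_one]
      rfl
    rw [h2]
    obtain ⟨d, hd⟩ := Ideal.mem_span_singleton'.1 hk
    rw [← hd, mul_assoc, mul_sub, _root_.mul_one, he.eq, sub_self, mul_zero]
  have h3 : y₀ fy = 0 := by
    have h4 := DFunLike.congr_fun (congrArg WithConv.ofConv (GrothLib.Hopf.point_comp_shift (GrothLib.Hopf.pinv t) y)) e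
    refine h4.trans ?_
    have h5 : GrothLib.Hopf.pinv t * y = GrothLib.Hopf.pinv g := by
      calc GrothLib.Hopf.pinv t * y = GrothLib.Hopf.pinv t * (y * g) * GrothLib.Hopf.pinv g := by
            rw [mul_assoc, mul_assoc y, GrothLib.Hopf.mul_pinv, _root_.mul_one]
        _ = GrothLib.Hopf.pinv g := by rw [GrothLib.Hopf.pinv_mul, _root_.one_mul]
    rw [h5]
    show g.ofConv (HopfAlgebra.antipodeAlgHom K C e) = 0
    have hp0 : p (HopfAlgebraStruct.antipode K e) = 0 := by
      rw [← GrothLib.Hopf.bialgHom_antipode, (hpker e).2 (Ideal.subset_span rfl), map_zero]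
    obtain ⟨d, hd⟩ := Ideal.mem_span_singleton'.1 ((hpker _).1 hp0)
    rw [HopfAlgebra.antipodeAlgHom_apply, ← hd, map_mul, hge, mul_zero]
  have h6 := hy₀ _ (hle hmem)
  rw [map_sub, map_one, h3, sub_zero] at h6
  exact one_ne_zero h6

end GrothLib.TorsTrans14
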